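-- Team project OHYP (S5992), BLK cut of helper27, package [INJ] (helper97):
-- an injective pairing bounds the dimension.
import Mathlib
import Cfsg.Agent.Lib.Helper27.OHyp.BlkDefs

set_option autoImplicit false

namespace Cfsg.Agent.Lib.Helper97.OHyp

open Cfsg.Agent.Lib.Helper23.OHyp Cfsg.Agent.Lib.Helper27.OHyp Matrix

universe u

section

variable {F : Type u} [Field F] {ι : Type}

/-- The pairing map `U' → Dual U`, `v ↦ (u ↦ B u v)`. -/
noncomputable def pairMap {Q : (ι → F) → F}
    (hB : Cfsg.Geo.IsBilinearForm (QuadraticMap.polar Q))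
    (U U' : Submodule F (ι → F)) : U' →ₗ[F] Module.Dual F U where
  toFun v :=
    { toFun := fun u => QuadraticMap.polar Q (u : ι → F) (v : ι → F)
      map_add' := fun a b => hB.add_left _ _ _
      map_smul' := fun c a => hB.smul_left c _ _ }
  map_add' := fun v w => by
    ext u
    exact hB.add_right _ _ _
  map_smul' := fun c v => by
    ext u
    exact hB.smul_right c _ _

theorem pairMap_apply {Q : (ι → F) → F}
    (hB : Cfsg.Geo.IsBilinearForm (QuadraticMap.polar Q))
    (U U' : Submodule F (ι → F)) (v : U') (u : U) :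
    pairMap hB U U' v u = QuadraticMap.polar Q (u : ι → F) (v : ι → F) := rfl

theorem pairMap_injective {Q : (ι → F) → F}
    (hB : Cfsg.Geo.IsBilinearForm (QuadraticMap.polar Q))
    (U U' : Submodule F (ι → F)) (h : PInj Q U U') :
    Function.Injective (pairMap hB U U') := by
  rw [← LinearMap.ker_eq_bot, Submodule.eq_bot_iff]
  intro v hv
  rw [LinearMap.mem_ker] at hv
  apply Subtype.ext
  apply h v v.2
  intro u hu
  exact LinearMap.congr_fun hv ⟨u, hu⟩

end

/-- [INJ] -/
theorem pkgInj : PkgInj.{u} := by
  intro F _ ι _ _ Q hQ U U' h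
  have hinj := pairMap_injective hQ.polar_bilinear U U' h
  have h1 := LinearMap.finrank_le_finrank_of_injective hinj
  rw [Subspace.dual_finrank_eq] at h1
  exact h1

end Cfsg.Agent.Lib.Helper97.OHyp
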