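-- Team project OHYP (S5992), BLK cut of helper27, package [PSUM] (helper97):
-- two totally isotropic subspaces of the same dimension in perfect pairing span a
-- nondegenerate subspace of twice the dimension.
import Mathlib
import Cfsg.Agent.Lib.Helper27.OHyp.BlkDefs
import Cfsg.Agent.Lib.Helper97.OHyp.Inj

set_option autoImplicit false

namespace Cfsg.Agent.Lib.Helper97.OHyp

open Cfsg.Agent.Lib.Helper23.OHyp Cfsg.Agent.Lib.Helper27.OHyp Matrix

universe u

/-- [PSUM] -/
theorem pkgPSum : PkgPSum.{u} := by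
  intro F _ ι _ _ Q hQ U U' hUU hU'U' hP hdim
  have hB := hQ.polar_bilinear
  have hinf : U ⊓ U' = ⊥ := by
    rw [Submodule.eq_bot_iff]
    intro v hv
    obtain ⟨hvU, hvU'⟩ := Submodule.mem_inf.mp hv
    exact hP v hvU' (fun u hu => hUU u hu v hvU)
  have hfin : Module.finrank F ↥(U ⊔ U') = 2 * Module.finrank F U := by
    have h := Submodule.finrank_sup_add_finrank_inf_eq U U'
    rw [hinf, finrank_bot, add_zero, hdim] at h
    omega
  refine ⟨?_, hfin⟩
  have key : ∀ w ∈ U ⊔ U', w ≠ 0 → ∃ y ∈ U ⊔ U', QuadraticMap.polar Q y w ≠ 0 := by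
    intro w hw hw0
    obtain ⟨u, hu, u1, hu1, rfl⟩ := Submodule.mem_sup.mp hw
    by_cases h1 : u1 = 0
    · subst h1
      rw [add_zero] at hw0 ⊢
      by_contra hcon
      push Not at hcon
      have hinj := pairMap_injective hB U U' hP
      have hsurj : Function.Surjective (pairMap hB U U') := by
        apply (LinearMap.injective_iff_surjective_of_finrank_eq_finrank ?_).mp hinj
        rw [Subspace.dual_finrank_eq, hdim]
      apply hw0
      have h0 : (⟨u, hu⟩ : U) = 0 := by
        rw [← Module.forall_dual_apply_eq_zero_iff F]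
        intro f
        obtain ⟨v, rfl⟩ := hsurj f
        rw [pairMap_apply, QuadraticMap.polar_comm]
        exact hcon v (Submodule.mem_sup_right v.2)
      exact congrArg Subtype.val h0
    · have h2 : ∃ u2 ∈ U, QuadraticMap.polar Q u2 u1 ≠ 0 := by
        by_contra hcon
        push Not at hcon
        exact h1 (hP u1 hu1 hcon)
      obtain ⟨u2, hu2, hne⟩ := h2
      refine ⟨u2, Submodule.mem_sup_left hu2, ?_⟩
      rw [hB.add_right, hUU u2 hu2 u hu, zero_add]
      exact hne
  intro w hw hw0
  obtain ⟨y, hy, hy0⟩ := key w hw hw0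
  exact ⟨⟨y, hy, hy0⟩, ⟨y, hy, by rw [QuadraticMap.polar_comm]; exact hy0⟩⟩

end Cfsg.Agent.Lib.Helper97.OHyp
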