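-- Team project OHYP (S5992), BLK cut of helper27, package [PAIR] (helper97):
-- semisimplicity gives an invariant partner of an invariant subspace.
import Mathlib
import Cfsg.Agent.Lib.Helper27.OHyp.BlkDefs
import Cfsg.Agent.Lib.Helper97.OHyp.Split

set_option autoImplicit false

namespace Cfsg.Agent.Lib.Helper97.OHyp

open Cfsg.Agent.Lib.Helper23.OHyp Cfsg.Agent.Lib.Helper27.OHyp Matrix

universe u

section

variable {F : Type u} [Field F] {ι : Type}

/-- The orthogonal of `U` inside `W`. -/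
def orthIn {Q : (ι → F) → F} (hB : Cfsg.Geo.IsBilinearForm (QuadraticMap.polar Q))
    (W U : Submodule F (ι → F)) : Submodule F (ι → F) where
  carrier := {w | w ∈ W ∧ ∀ u ∈ U, QuadraticMap.polar Q u w = 0}
  add_mem' := by
    rintro a b ⟨ha, ha'⟩ ⟨hb, hb'⟩
    exact ⟨W.add_mem ha hb, fun u hu => by rw [hB.add_right, ha' u hu, hb' u hu, add_zero]⟩
  zero_mem' := ⟨W.zero_mem, fun u _ => by
    have h := hB.smul_right 0 u 0
    rw [zero_smul, zero_mul] at h
    exact h⟩
  smul_mem' := by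
    rintro c a ⟨ha, ha'⟩
    exact ⟨W.smul_mem c ha, fun u hu => by rw [hB.smul_right, ha' u hu, mul_zero]⟩

theorem mem_orthIn {Q : (ι → F) → F} (hB : Cfsg.Geo.IsBilinearForm (QuadraticMap.polar Q))
    (W U : Submodule F (ι → F)) (w : ι → F) :
    w ∈ orthIn hB W U ↔ w ∈ W ∧ ∀ u ∈ U, QuadraticMap.polar Q u w = 0 := Iff.rfl

end

section

variable {F : Type u} [Field F] [Fintype F] {ι : Type} [Fintype ι] [DecidableEq ι]
  {Q : (ι → F) → F} {r : ℕ} {x : Matrix ι ι F}

/-- Under `Std` the map `toLin' x` is semisimple. -/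
theorem toLin'_semisimple (hS : Std Q r x) : Module.End.IsSemisimple (Matrix.toLin' x) := by
  apply Module.End.isSemisimple_of_squarefree_aeval_eq_zero
    (p := (Polynomial.X ^ r - Polynomial.C (1 : F)))
    (Polynomial.separable_X_pow_sub_C (1 : F) hS.ne one_ne_zero).squarefree
  rw [map_sub, map_pow, Polynomial.aeval_X, Polynomial.aeval_C, map_one, toLin'_pow_r hS,
    sub_self]

/-- Every invariant subspace has an invariant complement. -/
theorem exists_inv_compl (hS : Std Q r x) (C : Submodule F (ι → F)) (hC : Inv x C) :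
    ∃ q : Submodule F (ι → F), Inv x q ∧ IsCompl C q := by
  obtain ⟨q, hq, hCq⟩ := (Module.End.isSemisimple_iff.mp (toLin'_semisimple hS)) C
    ((Module.End.mem_invtSubmodule_iff_map_le _).mpr hC)
  exact ⟨q, (Module.End.mem_invtSubmodule_iff_map_le _).mp hq, hCq⟩

end

/-- [PAIR] -/
theorem pkgPair : PkgPair.{u} := by
  intro F _ _ ι _ _ Q r x hS W U hW hNd hUW hU hU0
  have hB := hS.nondeg.polar_bilinear
  have hr : r = (r - 1) + 1 := by
    have := hS.prime.pos
    omega
  have hUT : ∀ u ∈ U, Matrix.toLin' x u ∈ U := fun u hu => hU (Submodule.mem_map_of_mem hu)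
  have hWT : ∀ w ∈ W, Matrix.toLin' x w ∈ W := fun w hw => hW (Submodule.mem_map_of_mem hw)
  have hUp : ∀ (t : ℕ) (u : ι → F), u ∈ U → ((Matrix.toLin' x) ^ t) u ∈ U := by
    intro t
    induction t with
    | zero =>
      intro u hu
      simpa using hu
    | succ n ih =>
      intro u hu
      rw [pow_succ', Module.End.mul_apply]
      exact hUT _ (ih u hu)
  have hCinv : Inv x (orthIn hB W U) := by
    rintro _ ⟨w, ⟨hwW, hw⟩, rfl⟩
    refine ⟨hWT w hwW, fun u hu => ?_⟩
    have h := polar_toLin' hS (((Matrix.toLin' x) ^ (r - 1)) u) w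
    have h2 : Matrix.toLin' x (((Matrix.toLin' x) ^ (r - 1)) u) = u := by
      rw [← Module.End.mul_apply, ← pow_succ', ← hr, toLin'_pow_r hS, Module.End.one_apply]
    rw [h2] at h
    rw [h]
    exact hw _ (hUp (r - 1) u hu)
  obtain ⟨q, hq, hCq⟩ := exists_inv_compl hS _ hCinv
  refine ⟨q ⊓ W, inf_le_right, ?_, ?_, ?_⟩
  · rintro _ ⟨w, hw, rfl⟩
    obtain ⟨hwq, hwW⟩ := Submodule.mem_inf.mp hw
    exact Submodule.mem_inf.mpr ⟨hq (Submodule.mem_map_of_mem hwq), hWT w hwW⟩
  · intro hbot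
    obtain ⟨u, hu, hu0⟩ := (Submodule.ne_bot_iff U).mp hU0
    obtain ⟨-, ⟨y, hy, hy0⟩⟩ := hNd u (hUW hu) hu0
    apply hy0
    have hy' : y ∈ orthIn hB W U ⊔ q := by
      rw [hCq.sup_eq_top]
      exact Submodule.mem_top
    obtain ⟨c, hc, q', hq', hsum⟩ := Submodule.mem_sup.mp hy'
    have hq'W : q' ∈ W := by
      have h1 : q' = y - c := by
        rw [← hsum]
        abel
      rw [h1]
      exact W.sub_mem hy hc.1
    have hq'0 : q' = 0 := by
      have h1 : q' ∈ q ⊓ W := Submodule.mem_inf.mpr ⟨hq', hq'W⟩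
      rw [hbot] at h1
      exact (Submodule.mem_bot F).mp h1
    rw [hq'0, add_zero] at hsum
    rw [← hsum]
    exact hc.2 u hu
  · intro v hv hvU
    obtain ⟨hvq, hvW⟩ := Submodule.mem_inf.mp hv
    have hvC : v ∈ orthIn hB W U := ⟨hvW, hvU⟩
    have h1 : v ∈ orthIn hB W U ⊓ q := Submodule.mem_inf.mpr ⟨hvC, hvq⟩
    rw [hCq.inf_eq_bot] at h1
    exact (Submodule.mem_bot F).mp h1

end Cfsg.Agent.Lib.Helper97.OHyp
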